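import Cfsg.Agent.SympRegGen.Exists
import Cfsg.Agent.SympRegGen.Centres
import Cfsg.Agent.SympRegGen.Twist
import Cfsg.Agent.SympRegGen.TwistTwo
import Cfsg.Agent.SympRegGen.Fields
import Cfsg.Agent.SLRegGen.TwoConjugate

/-!
Three conjugate regular unipotent elements generate the symplectic group.
-/

set_option autoImplicit false

namespace CfsgLib.SympRegGen

open Matrix CfsgLib.Classical.Symp

variable {m : ℕ} {F : Type*} [Field F]

local notation "B" => Cfsg.sympForm m F
local notation "V" => (Fin m ⊕ Fin m → F)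
local notation "Sp" => Matrix.symplecticGroup (Fin m) F
local notation:70 g:71 " ⋆ " x:70 => act g x

/-- Generation by three conjugate regular unipotent elements. -/
def ThreeGen (m : ℕ) (F : Type*) [Field F] : Prop :=
  ∃ u g h : Matrix.symplecticGroup (Fin m) F,
    IsNilpotent ((u : Matrix (Fin m ⊕ Fin m) (Fin m ⊕ Fin m) F) - 1) ∧
    ((u : Matrix (Fin m ⊕ Fin m) (Fin m ⊕ Fin m) F) - 1) ^ (2 * m - 1) ≠ 0 ∧
    Subgroup.closure ({u, g * u * g⁻¹, h * u * h⁻¹} : Set (Matrix.symplecticGroup (Fin m) F)) = ⊤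

variable {u : Matrix.symplecticGroup (Fin m) F} {E D : Fin m ⊕ Fin m → F} {c : F}
variable {H : Subgroup (Matrix.symplecticGroup (Fin m) F)}

lemma Reg.threeGen (R : Reg u E D c) {g h : Sp} {lam : F} (hh : h * u * h⁻¹ = spT E lam * u)
    (htop : ∀ H : Subgroup Sp, u ∈ H → g * u * g⁻¹ ∈ H → spT E lam ∈ H → H = ⊤) : ThreeGen m F := by
  refine ⟨u, g, h, ⟨2 * m, R.nil⟩, fun h0 => R.top_ne ?_, htop _ ?_ ?_ ?_⟩
  · show ((u : Matrix (Fin m ⊕ Fin m) (Fin m ⊕ Fin m) F) - 1) ^ (2 * m - 1) *ᵥ D = 0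
    rw [h0, zero_mulVec]
  · exact Subgroup.subset_closure (by simp)
  · exact Subgroup.subset_closure (by simp)
  · have h1 : h * u * h⁻¹ * u⁻¹ ∈ Subgroup.closure ({u, g * u * g⁻¹, h * u * h⁻¹} : Set Sp) :=
      Subgroup.mul_mem _ (Subgroup.subset_closure (by simp))
        (Subgroup.inv_mem _ (Subgroup.subset_closure (by simp)))
    rw [show spT E lam = h * u * h⁻¹ * u⁻¹ by rw [hh, mul_inv_cancel_right]]
    exact h1

/-- The parameters of the transvections of `H` centred at `x`. -/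
def spVals (H : Subgroup (Matrix.symplecticGroup (Fin m) F)) (x : Fin m ⊕ Fin m → F) : AddSubgroup F where
  carrier := {t | spT x t ∈ H}
  zero_mem' := by
    show spT x 0 ∈ H
    rw [spT_zero]; exact H.one_mem
  add_mem' {a b} ha hb := by
    show spT x (a + b) ∈ H
    rw [spT_add]; exact H.mul_mem ha hb
  neg_mem' {a} ha := by
    show spT x (-a) ∈ H
    rw [← spT_inv]; exact H.inv_mem ha

lemma conj_mem (hv : ∀ t, spT E t ∈ H) {g : Sp} (hg : g ∈ H) : ∀ t, spT (g ⋆ E) t ∈ H :=
  Full.image hv hg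

/-- Full centres from a prime field. -/
lemma Reg.full_prime [Fintype F] (hp : (Fintype.card F).Prime) {lam α : F} {v : Sp} (hlam : lam ≠ 0)
    (hα : α ≠ 0) (hv : v ∈ H) (hT : spT E lam ∈ H) (hvE : v ⋆ E = α • D) : Full H E ∧ Full H D := by
  have hE : Full H E := fun t =>
    addSubgroup_top_of_stable (spVals H E) (k := 1) hlam hT (fun x hx => by rwa [one_mul])
      (fun K _ => CfsgLib.SLRegGen.subring_eq_top_of_prime hp K) t
  refine ⟨hE, ?_⟩
  have h := (hE.image hv).smul α⁻¹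
  rwa [hvE, smul_smul, inv_mul_cancel₀ hα, one_smul] at h

lemma spT_conj_D {lam α : F} {v : Sp} (hv : v ∈ H) (hT : spT E lam ∈ H) (hvE : v ⋆ E = α • D) :
    spT D (α ^ 2 * lam) ∈ H := by
  rw [← spT_smul, ← hvE, act, ← conj_spT]
  exact H.mul_mem (H.mul_mem hv hT) (H.inv_mem hv)

lemma spT_conj_star {lam ρ : F} {v : Sp} (hu : u ∈ H) (hv : v ∈ H) (hT : spT E lam ∈ H)
    (hvuv : v ⋆ (u ⋆ (v ⋆ E)) = -(E + ρ • D)) : spT (E + ρ • D) lam ∈ H := by
  rw [← spT_neg, ← hvuv, ← act_mul, ← act_mul, act, ← conj_spT]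
  exact H.mul_mem (H.mul_mem (H.mul_mem (H.mul_mem hv hu) hv) hT)
    (H.inv_mem (H.mul_mem (H.mul_mem hv hu) hv))

/-- Full centres from a split semisimple element. -/
lemma Reg.full_three (R : Reg u E D c) {lam α ρ κ : F} {v : Sp} (hu : u ∈ H) (hv : v ∈ H)
    (hT : spT E lam ∈ H) (hvE : v ⋆ E = α • D) (hvuv : v ⋆ (u ⋆ (v ⋆ E)) = -(E + ρ • D))
    (hlam : lam ≠ 0) (hα : α ≠ 0) (h1 : lam * ρ = 1 - κ) (h2 : α ^ 2 * κ = -ρ ^ 2)
    (hgen : ∀ K : Subring F, κ ^ 2 ∈ K → K = ⊤) : Full H E ∧ Full H D := by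
  set e := E + ρ • D with he
  set W := spT D (α ^ 2 * lam) * spT E lam with hW
  have hWH : W ∈ H := H.mul_mem (spT_conj_D hv hT hvE) hT
  have hWe : W ⋆ e = κ • e := by
    have e1 : spT E lam ⋆ e = κ • E + ρ • D := by
      rw [he, act, spT_mulVec, form_add_left, form_self, form_smul_left, R.form_D_E]
      match_scalars
      · linear_combination -h1
      · ring
    rw [hW, act_mul, e1, he, act, spT_mulVec, form_add_left, form_smul_left, form_smul_left, form_self,
      R.pair]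
    match_scalars
    · ring
    · linear_combination lam * h2 + (ρ ^ 2 * 0) * h1 - ρ * h1
  have he' : spT e lam ∈ H := spT_conj_star hu hv hT hvuv
  have hfe : Full H e := fun t =>
    addSubgroup_top_of_stable (spVals H e) (k := κ ^ 2) hlam he' (fun x hx => by
      show spT e (κ ^ 2 * x) ∈ H
      rw [← spT_smul, ← hWe, act, ← conj_spT]
      exact H.mul_mem (H.mul_mem hWH hx) (H.inv_mem hWH)) hgen t
  have hE : Full H E := by
    have h := (hfe.smul (-1)).image (H.inv_mem (H.mul_mem (H.mul_mem hv hu) hv))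
    rwa [neg_one_smul, ← hvuv, show v ⋆ (u ⋆ (v ⋆ E)) = (v * u * v) ⋆ E by rw [act_mul, act_mul],
      act_inv_act] at h
  refine ⟨hE, ?_⟩
  have h := (hE.image hv).smul α⁻¹
  rwa [hvE, smul_smul, inv_mul_cancel₀ hα, one_smul] at h

/-- Full centres from two values at one centre. -/
lemma Reg.full_two [Fintype F] (R : Reg u E D c) {p : ℕ} (hp : p.Prime) (hq : Fintype.card F = p ^ 2)
    {lam α ρ : F} {v : Sp} (hu : u ∈ H) (hv : v ∈ H) (hT : spT E lam ∈ H) (hvE : v ⋆ E = α • D)
    (hvuv : v ⋆ (u ⋆ (v ⋆ E)) = -(E + ρ • D)) (h1 : lam * ρ = -1) (hα : α ≠ 0)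
    (hr : ∀ z : ℤ, (α / ρ) ^ 2 ≠ z) : Full H E ∧ Full H D := by
  have hlam : lam ≠ 0 := fun h => by rw [h, zero_mul] at h1; exact one_ne_zero (neg_eq_zero.1 h1.symm)
  have hρ : ρ ≠ 0 := fun h => by rw [h, mul_zero] at h1; exact one_ne_zero (neg_eq_zero.1 h1.symm)
  set e := E + ρ • D with he
  have he' : spT e lam ∈ H := spT_conj_star hu hv hT hvuv
  have hTE : spT e lam ⋆ E = -ρ • D := by
    rw [act, spT_mulVec, he, form_add_right, form_self, form_smul_right, R.pair]
    match_scalars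
    · linear_combination h1
    · linear_combination ρ * h1
  have hD1 : spT D (ρ ^ 2 * lam) ∈ H := by
    rw [← neg_sq, ← spT_smul, ← hTE, act, ← conj_spT]
    exact H.mul_mem (H.mul_mem he' hT) (H.inv_mem he')
  have hD : Full H D := fun t =>
    addSubgroup_top_of_card_sq hp hq (spVals H D) (r := (α / ρ) ^ 2) (mul_ne_zero (pow_ne_zero _ hρ) hlam)
      hD1 (by
        rw [show (α / ρ) ^ 2 * (ρ ^ 2 * lam) = α ^ 2 * lam by field_simp]
        exact spT_conj_D hv hT hvE) hr t
  refine ⟨?_, hD⟩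
  have h := (hD.smul α).image (H.inv_mem hv)
  rwa [← hvE, act_inv_act] at h

variable [Fintype F]

lemma exists_generator' : ∃ θ : F, θ ≠ 0 ∧ (∀ K : Subring F, θ ∈ K → K = ⊤) ∧
    ∀ k : ℕ, θ ^ k = 1 → Fintype.card F - 1 ∣ k := by
  classical
  obtain ⟨g, hg⟩ := IsCyclic.exists_generator (α := Fˣ)
  refine ⟨(g : F), g.ne_zero, fun K hK => ?_, fun k hk => ?_⟩
  · rw [eq_top_iff]
    intro x _
    by_cases hx : x = 0
    · subst hx; exact K.zero_mem
    obtain ⟨k, hk⟩ := (mem_powers_iff_mem_zpowers.2 (hg (Units.mk0 x hx)) :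
      Units.mk0 x hx ∈ Submonoid.powers g)
    have h := congrArg Units.val hk
    simp only [Units.val_pow_eq_pow_val, Units.val_mk0] at h
    rw [← h]
    exact K.pow_mem hK k
  · rw [← Fintype.card_units, ← Nat.card_eq_fintype_card, ← orderOf_eq_card_of_forall_mem_zpowers hg]
    exact orderOf_dvd_of_pow_eq_one (Units.ext (by simpa using hk))

/-- The field has two elements. -/
theorem Reg.threeGen_two (R : Reg u E D c) (hm : 3 ≤ m) (hq : Fintype.card F = 2) : ThreeGen m F := by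
  have h2 : (2 : F) = 0 := by
    have h := FiniteField.cast_card_eq_zero F
    rw [hq] at h
    exact_mod_cast h
  obtain ⟨D1, hD1, hk1⟩ := R.exists_shift (Or.inl hm) (1 - B D (u ⋆ D))
  have hδ : B D1 (u ⋆ D1) = 1 := by
    have := hk1 1
    rw [pow_one, Nat.cast_one, one_mul] at this
    linear_combination this
  have R1 := R.change hD1
  obtain ⟨g, w, hgE, hguD, hNw, hEw⟩ := R1.exists_twist_two hm h2 hδ
  obtain ⟨D0, hD0, hk0⟩ := R.exists_shift (Or.inl hm) (-1)
  obtain ⟨h, hh⟩ := R.exists_conj_transvection 1 hD0 (fun k => by rw [hk0]; ring)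
  refine R.threeGen (g := g) hh fun H hu hv hT => ?_
  obtain ⟨hE, hD⟩ := Reg.full_prime (hq ▸ Nat.prime_two) (D := D1) one_ne_zero (α := 1) one_ne_zero hv hT
    (by rw [hgE, one_smul])
  have hw : Full H w := hguD ▸ (hD.image hu).image hv
  exact eq_top_of_translation R1 hu hE hD
    (translation_of_square R1 hu hE hD hw hNw hEw (by rw [hδ]; exact one_ne_zero))

/-- The general case. -/
theorem Reg.threeGen_general (R : Reg u E D c) (hm : 3 ≤ m ∨ (2 : F) ≠ 0) (h3 : 3 ≤ Fintype.card F) :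
    ThreeGen m F := by
  classical
  obtain ⟨s0, hs0, hs1⟩ : ∃ s : F, s ≠ 0 ∧ s ≠ 1 := by
    by_contra hno
    push Not at hno
    have : Finset.univ ⊆ ({0, 1} : Finset F) := fun x _ => by
      by_cases hx : x = 0
      · simp [hx]
      · simp [hno x hx]
    have := (Finset.card_le_card this).trans Finset.card_le_two
    rw [Finset.card_univ] at this
    omega
  have main : ∀ α ρ lam : F, α ≠ 0 →
      (∀ (D' : V) (H : Subgroup Sp) (v : Sp), Reg u E D' c → u ∈ H → v ∈ H → spT E lam ∈ H → v ⋆ E = α • D' →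
        v ⋆ (u ⋆ (v ⋆ E)) = -(E + ρ • D') → Full H E ∧ Full H D') → ThreeGen m F := by
    intro α ρ lam hα hfull
    obtain ⟨y, hy, hky⟩ := R.exists_shift hm (α - B D (u ⋆ D))
    have hyα : B y (u ⋆ y) = α := by
      have := hky 1
      rw [pow_one, Nat.cast_one, one_mul] at this
      linear_combination this
    obtain ⟨D2, hD2, hk2⟩ := R.exists_shift hm ((B y ((u ^ 2) ⋆ y) + ρ) / α ^ 2 - B D (u ⋆ D))
    have hδ : α ^ 2 * B D2 (u ⋆ D2) = B y ((u ^ 2) ⋆ y) + ρ := by
      have := hk2 1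
      rw [pow_one, Nat.cast_one, one_mul] at this
      rw [this, add_sub_cancel, mul_div_cancel₀ _ (pow_ne_zero _ hα)]
    obtain ⟨g, hgE, hgu⟩ := (R.change hD2).exists_twist (R.change hy) hα hyα hδ
    obtain ⟨D0, hD0, hk0⟩ := R.exists_shift hm (-lam)
    obtain ⟨h, hh⟩ := R.exists_conj_transvection lam hD0 (fun k => by rw [hk0]; ring)
    refine R.threeGen (g := g) hh fun H hu hv hT => ?_
    obtain ⟨hE, hD⟩ := hfull D2 H _ (R.change hD2) hu hv hT hgE hgu
    exact eq_top_of_translation (R.change hD2) hu hE hD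
      (translation_of_three (R.change hD2) hu hE hD ⟨s0, hs0, hs1⟩)
  by_cases hp : (Fintype.card F).Prime
  · exact main 1 1 1 one_ne_zero fun D' H v _ _ hv hT hvE _ =>
      Reg.full_prime hp one_ne_zero one_ne_zero hv hT hvE
  obtain ⟨θ, hθ, hgen, hord⟩ := exists_generator' (F := F)
  have hθint : ∀ z : ℤ, θ ≠ z := fun z hz => hp (CfsgLib.SLRegGen.card_prime_of_bot
    (hgen ⊥ (Subring.mem_bot.2 ⟨z, hz.symm⟩)))
  by_cases h9 : Fintype.card F = 9
  · refine main θ (-1) 1 hθ fun D' H v R' hu hv hT hvE hvuv =>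
      R'.full_two Nat.prime_three (by rw [h9]; norm_num) hu hv hT hvE hvuv (by ring) hθ fun z hz => ?_
    rw [div_neg, div_one, neg_sq] at hz
    -- an element of the prime field has fourth power in the prime field
    have h33 : (3 : F) = 0 := by
      have h := FiniteField.cast_card_eq_zero F
      rw [h9] at h
      push_cast at h
      exact mul_self_eq_zero.1 (by linear_combination h)
    have hz' : (z : F) = 0 ∨ (z : F) = 1 ∨ (z : F) = -1 := by
      have e : (z : F) = ((z % 3 : ℤ) : F) := by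
        conv_lhs => rw [← Int.emod_add_mul_ediv z 3]
        push_cast
        rw [h33, zero_mul, add_zero]
      have h0 : 0 ≤ z % 3 := Int.emod_nonneg _ (by norm_num)
      have h3' : z % 3 < 3 := Int.emod_lt_of_pos _ (by norm_num)
      rw [e]
      interval_cases (z % 3)
      · left; norm_num
      · right; left; norm_num
      · right; right; push_cast; linear_combination h33
    have hb : θ ^ 4 = 1 := by
      rcases hz' with h | h | h
      · exfalso; rw [h] at hz; exact hθ (pow_eq_zero_iff two_ne_zero |>.1 hz)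
      · linear_combination (θ ^ 2 + 1) * (hz.trans h)
      · linear_combination (θ ^ 2 - 1) * (hz.trans h)
    have := Nat.le_of_dvd (by norm_num) (hord 4 hb)
    omega
  · have hgen4 := subring_top_of_fourth hθ hgen hord hp h9
    have hne : 1 + θ ^ 2 ≠ 0 := fun h => by
      have h4 : θ ^ 4 = 1 := by linear_combination (θ ^ 2 - 1) * h
      exact hp (CfsgLib.SLRegGen.card_prime_of_bot (hgen4 ⊥ (by rw [h4]; exact Subring.one_mem _)))
    refine main 1 θ ((1 + θ ^ 2) / θ) one_ne_zero fun D' H v R' hu hv hT hvE hvuv =>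
      R'.full_three (κ := -θ ^ 2) hu hv hT hvE hvuv (div_ne_zero hne hθ) one_ne_zero ?_ (by ring)
        fun K hK => hgen4 K (by rwa [neg_sq, ← pow_mul] at hK)
    rw [div_mul_cancel₀ _ hθ]
    ring

/-- Dimension four, characteristic two. -/
theorem Reg.threeGen_four (R : Reg u E D c) (hm : m = 2) (h2 : (2 : F) = 0) (h4 : 4 ≤ Fintype.card F) :
    ThreeGen m F := by
  classical
  have hr : ringChar F = 2 := by
    have : CharP F 2 := CharTwo.of_one_ne_zero_of_two_eq_zero one_ne_zero h2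
    exact ringChar.eq F 2
  have hsqrt : ∀ x : F, ∃ a, a ^ 2 = x := fun x => by
    obtain ⟨a, ha⟩ := FiniteField.isSquare_of_char_two hr x
    exact ⟨a, by rw [ha, pow_two]⟩
  have hneg : ∀ a : F, -a = a := fun a => by linear_combination -(a * h2)
  -- normalise
  obtain ⟨t, ht⟩ := hsqrt c
  have ht0 : t ≠ 0 := fun h => R.c_ne (by rw [← ht, h]; ring)
  have R1 := R.smul ht0
  rw [← ht, div_self (pow_ne_zero _ ht0)] at R1
  generalize t⁻¹ • E = E1 at R1
  generalize t • D = D1 at R1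
  have R2 := R1.transvection_mul (1 - B D1 (u ⋆ D1))
  have hδ : B D1 ((spT E1 (1 - B D1 (u ⋆ D1)) * u) ⋆ D1) = 1 := by
    have := R1.invariant_transvection (1 - B D1 (u ⋆ D1)) R1.pair 1
    rw [pow_one, pow_one, Nat.cast_one, one_mul] at this
    rw [this]
    ring
  generalize spT E1 (1 - B D1 (u ⋆ D1)) * u = u2 at R2 hδ
  -- the element `w` with `N² w = E`
  obtain ⟨w, hw⟩ : ∃ w, w = nilPart u2 *ᵥ D1 := ⟨_, rfl⟩
  have htop : E1 = nilPart u2 ^ 3 *ᵥ D1 := by
    rw [R2.top, one_smul, show 2 * m - 1 = 3 by omega]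
  have hNNw : nilPart u2 *ᵥ (nilPart u2 *ᵥ w) = (1 : F) • E1 := by
    rw [hw, one_smul, htop, pow_succ_mulVec, pow_succ_mulVec, pow_one]
  have hEw : B E1 w = 0 := by rw [hw]; exact R2.form_E_nil _
  have hiE : B D1 (u2⁻¹ ⋆ E1) = 1 := by rw [R2.inv_fix_E, R2.form_D_E, hneg]
  have hμ : B w (nilPart u2 *ᵥ w) = 1 := by
    rw [hw, form_nilPart_left]
    have : nilPart u2 *ᵥ (u2⁻¹ ⋆ (nilPart u2 *ᵥ (nilPart u2 *ᵥ D1))) = u2⁻¹ ⋆ E1 := by
      rw [htop, act, mulVec_mulVec, ← (commute_inv_nilPart u2).eq, ← mulVec_mulVec, pow_succ_mulVec,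
        pow_succ_mulVec, pow_one]
    rw [this, hiE, hneg]
  -- the square
  have hγ : B D1 ((u2 ^ 2) ⋆ D1) = 1 := by
    have e3 : nilPart u2 *ᵥ (nilPart u2 *ᵥ (nilPart u2 *ᵥ D1)) = E1 := by
      rw [← hw, hNNw, one_smul]
    have e1 : u2⁻¹ ⋆ D1 = D1 - nilPart u2 *ᵥ D1 + nilPart u2 *ᵥ (nilPart u2 *ᵥ D1) - E1 := by
      have e : u2 ⋆ (D1 - nilPart u2 *ᵥ D1 + nilPart u2 *ᵥ (nilPart u2 *ᵥ D1) - E1) = D1 := by
        rw [act_sub, act_add, act_sub, R2.fix_E, act_eq u2 D1, act_eq u2 (nilPart u2 *ᵥ D1),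
          act_eq u2 (nilPart u2 *ᵥ (nilPart u2 *ᵥ D1)), e3]
        abel
      conv_lhs => rw [← e]
      rw [act_inv_act]
    have e2 : B D1 (nilPart u2 *ᵥ (nilPart u2 *ᵥ D1)) = 1 := by
      have h := form_nilPart_left u2 D1 D1
      rw [e1, mulVec_sub, mulVec_add, mulVec_sub, R2.nil_E, e3, sub_zero, form_add_right, form_sub_right,
        R2.form_D_E, form_swap (nilPart u2 *ᵥ D1) D1] at h
      linear_combination -h - h2
    rw [pow_two, act_mul, act_eq u2 D1, act_add, act_eq u2 D1, act_eq u2 (nilPart u2 *ᵥ D1)]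
    simp only [form_add_right, form_self, e2]
    linear_combination B D1 (nilPart u2 *ᵥ D1) * h2

  -- three elements suffice
  obtain ⟨s0, hs0, hs1⟩ : ∃ s : F, s ≠ 0 ∧ s ≠ 1 := by
    by_contra hno
    push Not at hno
    have : Finset.univ ⊆ ({0, 1} : Finset F) := fun x _ => by
      by_cases hx : x = 0
      · simp [hx]
      · simp [hno x hx]
    have := (Finset.card_le_card this).trans Finset.card_le_two
    rw [Finset.card_univ] at this
    omega
  have main : ∀ α ρ lam τ : F, α ≠ 0 → α ^ 2 = α + ρ → τ + τ ^ 2 = lam →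
      (∀ (H : Subgroup Sp) (v : Sp), u2 ∈ H → v ∈ H → spT E1 lam ∈ H → v ⋆ E1 = α • D1 →
        v ⋆ (u2 ⋆ (v ⋆ E1)) = -(E1 + ρ • D1) → Full H E1 ∧ Full H D1) → ThreeGen m F := by
    intro α ρ lam τ hα hρ hτ hfull
    obtain ⟨a, ha⟩ := hsqrt α
    have ha0 : a ≠ 0 := fun h => hα (by rw [← ha, h]; ring)
    have hy : B (a • D1) (u2 ⋆ (a • D1)) = α := by
      rw [act_smul, form_smul_left, form_smul_right, hδ, ← ha]; ring
    have hδ' : α ^ 2 * B D1 (u2 ⋆ D1) = B (a • D1) ((u2 ^ 2) ⋆ (a • D1)) + ρ := by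
      rw [act_smul, form_smul_left, form_smul_right, hγ, hδ]
      linear_combination hρ - ha
    obtain ⟨g, hgE, hgu⟩ := R2.exists_twist (R2.smul ha0) hα hy hδ'
    obtain ⟨h, hh⟩ := R2.exists_conj_transvection lam (D' := D1 + τ • w)
      (by rw [form_add_right, form_smul_right, hEw, R2.pair, mul_zero, add_zero]) (fun k => by
        rw [R2.invariant_shift hNNw hEw τ k, hμ, h2, ← hτ]
        linear_combination (k : F) * (τ + τ ^ 2) * h2)
    refine R2.threeGen (g := g) hh fun H hu hv hT => ?_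
    obtain ⟨hE, hD⟩ := hfull H _ hu hv hT hgE hgu
    exact eq_top_of_translation R2 hu hE hD (translation_of_three R2 hu hE hD ⟨s0, hs0, hs1⟩)
  obtain ⟨θ, hθ, hgen, hord⟩ := exists_generator' (F := F)
  by_cases hq4 : Fintype.card F = 4
  · have h33 : θ ^ 3 = 1 := by
      have := FiniteField.pow_card_sub_one_eq_one θ hθ
      rwa [hq4] at this
    have hθ1 : θ ≠ 1 := fun h => by
      have := Nat.le_of_dvd one_pos (hord 1 (by rw [h, one_pow]))
      omega
    have h111 : θ ^ 2 + θ + 1 = 0 := by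
      refine mul_left_cancel₀ (sub_ne_zero.2 hθ1) ?_
      linear_combination h33
    refine main θ 1 1 θ hθ (by linear_combination h111 - (θ + 1) * h2) (by linear_combination h111 - h2)
      fun H v hu hv hT hvE hvuv => R2.full_two Nat.prime_two (by rw [hq4]; norm_num) hu hv hT hvE hvuv
        (by rw [hneg, one_mul]) hθ fun z hz => ?_
    rw [div_one] at hz
    have hz' : (z : F) = 0 ∨ (z : F) = 1 := by
      rcases Int.even_or_odd' z with ⟨k, rfl | rfl⟩
      · left; push_cast; rw [h2, zero_mul]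
      · right; push_cast; rw [h2, zero_mul, zero_add]
    rcases hz' with h | h
    · rw [h] at hz
      exact hθ (pow_eq_zero_iff two_ne_zero |>.1 hz)
    · rw [h] at hz
      exact hθ1 (by linear_combination h33 - θ * hz)
  · have h4' : 4 < Fintype.card F := lt_of_le_of_ne h4 (Ne.symm hq4)
    obtain ⟨τ, hτ⟩ := exists_artinSchreier_generator h2 h4' hθ hgen hord
    have hp : ¬ (Fintype.card F).Prime := fun hp => by
      have h := CfsgLib.SLRegGen.card_of_prime hp Nat.prime_two (by exact_mod_cast h2)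
      omega
    set z := τ ^ 2 + τ with hz
    have hz1 : z + 1 ≠ 0 := fun h => hp (CfsgLib.SLRegGen.card_prime_of_bot
      (hτ ⊥ (Subring.mem_bot.2 ⟨1, by push_cast; linear_combination -h + h2⟩)))
    set s := (z + 1)⁻¹ with hs
    have hs0' : s ≠ 0 := inv_ne_zero hz1
    have hgen4 : ∀ K : Subring F, s ^ 4 ∈ K → K = ⊤ := by
      intro K hK
      obtain ⟨n, hpr, hn⟩ := FiniteField.card F (ringChar F)
      rw [hr] at hn
      have hn2 : 2 ≤ (n : ℕ) := by
        by_contra hh
        exact hp (by rw [hn, show (n : ℕ) = 1 by have := n.pos; omega]; norm_num)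
      obtain ⟨r, hr'⟩ : 4 ∣ Fintype.card F := by rw [hn]; exact pow_dvd_pow 2 hn2
      have h := K.pow_mem hK r
      rw [← pow_mul, ← hr', FiniteField.pow_card] at h
      have h' := K.sub_mem (CfsgLib.SLRegGen.subring_inv_mem K h) K.one_mem
      rw [hs, inv_inv, add_sub_cancel_right] at h'
      exact hτ K h'
    have hsne : 1 + s ≠ 0 := fun h => hp (CfsgLib.SLRegGen.card_prime_of_bot
      (hgen4 ⊥ (by rw [show s = 1 by linear_combination h - h2, one_pow]; exact Subring.one_mem _)))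
    refine main (1 + s) (s * (1 + s)) ((1 + s) / s) τ hsne (by ring) ?_
      fun H v hu hv hT hvE hvuv => R2.full_three (κ := s ^ 2) hu hv hT hvE hvuv (div_ne_zero hsne hs0')
        hsne ?_ (by linear_combination (s ^ 2 * (1 + s) ^ 2) * h2)
        fun K hK => hgen4 K (by rwa [← pow_mul] at hK)
    · rw [add_div, div_self hs0', one_div, hs, inv_inv, hz]
      linear_combination -h2
    · field_simp
      linear_combination (s + s ^ 2) * h2

theorem three_regular_unipotent (hm : 2 ≤ m) (h22 : ¬ (m = 2 ∧ Fintype.card F = 2)) : ThreeGen m F := by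
  obtain ⟨u, E, D, c, R⟩ := exists_regular m F hm
  have h1 : 2 ≤ Fintype.card F := Fintype.one_lt_card
  by_cases hq : Fintype.card F = 2
  · have : m ≠ 2 := fun h => h22 ⟨h, hq⟩
    exact R.threeGen_two (by omega) hq
  by_cases h : 3 ≤ m ∨ (2 : F) ≠ 0
  · exact R.threeGen_general h (by omega)
  · push Not at h
    refine R.threeGen_four (by omega) h.2 ?_
    by_contra h4
    have h3 : Fintype.card F = 3 := by omega
    have h' := FiniteField.cast_card_eq_zero F
    rw [h3] at h'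
    push_cast at h'
    exact one_ne_zero (α := F) (by linear_combination h' - h.2)

end CfsgLib.SympRegGen
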